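import Cfsg.Agent.Rank3.Coprime
import Cfsg.Agent.CsPSL.Quotient
import Cfsg.Agent.S0205

/-!
Simple groups with three class sizes, none properly dividing another: centralisers are abelian.
-/

set_option autoImplicit false

namespace Cfsg.Agent.Rank3

open Subgroup CsPSL
open scoped Classical

variable {G : Type*} [Group G] [Finite G] [IsSimpleGroup G] (hG : ¬ IsMulCommutative G)
  (hA : ∀ g h : G, g ≠ 1 → h ≠ 1 → idx g ∣ idx h → idx g = idx h)

omit [IsSimpleGroup G] in
theorem dvd_card_of_mem {r : ℕ} [Fact r.Prime] {T : Subgroup G} (hT : IsPGroup r ↥T) {x : G}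
    (hx : x ∈ T) (hx1 : x ≠ 1) : r ∣ Nat.card G := by
  obtain ⟨n, hn⟩ := hT.exists_card_eq
  rcases n with _ | n
  · rw [pow_zero] at hn
    exact absurd ((Subgroup.card_eq_one.1 hn ▸ hx : x ∈ (⊥ : Subgroup G))) (by simpa using hx1)
  · exact ((dvd_pow_self r n.succ_ne_zero).trans hn.symm.dvd).trans (Subgroup.card_subgroup_dvd_card T)

/-- The centraliser is abelian. -/
def AbC (x : G) : Prop := ∀ u ∈ cent x, ∀ v ∈ cent x, u * v = v * u

include hG hA

theorem isolated {x : G} (hx : x ≠ 1) : Isolated x := by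
  have h1 : ∀ g : G, g ∉ Subgroup.center G → g ≠ 1 := fun g hg e => hg (e ▸ one_mem _)
  exact isolated_of_index (fun hc => hx ((mem_center_iff_eq_one hG).1 hc))
    (fun g hg hd => (hA x g hx (h1 g hg) hd).symm) fun g hg hd => hA g x (h1 g hg) hx hd

theorem ne_center {x : G} (hx : x ≠ 1) : x ∉ Subgroup.center G := fun hc =>
  hx ((mem_center_iff_eq_one hG).1 hc)

theorem cent_eq_of_abC {x w : G} (hx : x ≠ 1) (hab : AbC x) (hw : w ∈ cent x) (hw1 : w ≠ 1) :
    cent w = cent x :=
  (isolated hG hA hx).2 w (ne_center hG hA hw1) (Or.inr fun u hu => mem_cent.2 (hab u hu w hw))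

theorem dichotomy {x : G} (hx : x ≠ 1) :
    AbC x ∨ (¬ AbC x ∧ ∃ r : ℕ, r.Prime ∧ ∃ P : Sylow r G, (P : Subgroup G) = cent x) := by
  by_cases hab : AbC x
  · exact Or.inl hab
  refine Or.inr ⟨hab, ?_⟩
  obtain ⟨r, y, hr, hy, hye, hyi⟩ := (isolated hG hA hx).exists_prime_power
  haveI : Fact r.Prime := ⟨hr⟩
  rcases hyi.comm_or_pgroup hr hy with h | hpg
  · rw [hye] at h; exact absurd h hab
  rw [hye] at hpg
  have hgrp : IsPGroup r ↥(cent x) := by
    rintro ⟨u, hu⟩
    obtain ⟨k, hk⟩ := hpg u hu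
    exact ⟨k, Subtype.ext ((mem_center_iff_eq_one hG).1 hk)⟩
  obtain ⟨P, hP⟩ := hgrp.exists_le_sylow
  have hrd : r ∣ Nat.card G := dvd_card_of_mem hgrp (self_mem_cent x) hx
  obtain ⟨z, hzP, hz1, hPz, -⟩ := exists_central hG P hrd
  have hPle : (P : Subgroup G) ≤ cent z := fun w hw => hPz w hw
  have e := (isolated hG hA hx).2 z (ne_center hG hA hz1) (Or.inr (hP.trans hPle))
  exact ⟨r, hr, P, le_antisymm (e ▸ hPle) hP⟩

/-- An element of an abelian centraliser has abelian centraliser. -/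
theorem abC_of_mem {x w : G} (hx : x ≠ 1) (hab : AbC x) (hw : w ∈ cent x) (hw1 : w ≠ 1) : AbC w := by
  unfold AbC
  rw [cent_eq_of_abC hG hA hx hab hw hw1]
  exact hab

theorem coprime_abC {x : G} (hx : x ≠ 1) (hab : AbC x) : Nat.Coprime (ord x) (idx x) := by
  refine Nat.coprime_of_dvd fun r hr h1 h2 => ?_
  haveI : Fact r.Prime := ⟨hr⟩
  obtain ⟨⟨w, hw⟩, hwo⟩ := exists_prime_orderOf_dvd_card' (G := ↥(cent x)) r h1
  rw [Subgroup.orderOf_mk] at hwo
  have hw1 : w ≠ 1 := fun e => hr.one_lt.ne (by rw [← hwo, e, orderOf_one])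
  obtain ⟨z, hz, -, hzr, hwz⟩ := exists_central_commute hG (w := w) ⟨1, by rw [hwo, pow_one]⟩
    (h2.trans (idx_dvd_card x))
  have e := cent_eq_of_abC hG hA hx hab hw hw1
  have hzx : z ∈ cent x := e ▸ mem_cent_symm hwz
  have := cent_eq_of_abC hG hA hx hab hzx hz
  rw [idx, this] at hzr
  exact hzr h2

theorem not_abC_of_mem {x : G} {r : ℕ} [Fact r.Prime] (hx : x ≠ 1) (hn : ¬ AbC x) {P : Sylow r G}
    (hP : (P : Subgroup G) = cent x) {w : G} (hw : w ∈ (P : Subgroup G)) (hw1 : w ≠ 1) : ¬ AbC w := by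
  intro hab
  obtain ⟨z, hzP, hz1, hPz, -⟩ :=
    exists_central hG P (dvd_card_of_mem P.2 hw hw1)
  have hzc : cent z = cent x :=
    (isolated hG hA hx).2 z (ne_center hG hA hz1) (Or.inr fun u hu => hPz u (hP ▸ hu))
  have hzw : z ∈ cent w := mem_cent_symm (hPz w hw)
  exact hn fun u hu v hv => abC_of_mem hG hA hw1 hab hzw hz1 u (hzc ▸ hu) v (hzc ▸ hv)

/-- A non-abelian centraliser is a Sylow subgroup for an odd prime, with small centre. -/
theorem pgroup_structure {x : G} {r : ℕ} [Fact r.Prime] (hx : x ≠ 1) (hn : ¬ AbC x) (P : Sylow r G)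
    (hP : (P : Subgroup G) = cent x) :
    r ≠ 2 ∧ 9 * Nat.card ↥(Subgroup.center ↥(P : Subgroup G)) ≤ Nat.card ↥(P : Subgroup G) := by
  set T := (P : Subgroup G) with hT
  have hTn : ¬ ∀ u v : ↥T, u * v = v * u := fun h => hn fun u hu v hv =>
    congrArg Subtype.val (h ⟨u, hP.symm ▸ hu⟩ ⟨v, hP.symm ▸ hv⟩)
  have hxT : x ∈ T := by rw [hP]; exact self_mem_cent x
  have hrd : r ∣ Nat.card G := dvd_card_of_mem P.2 hxT hx
  have hnc : ¬ IsCyclic (↥T ⧸ Subgroup.center ↥T) := fun hc => hTn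
    (commutative_of_cyclic_center_quotient (QuotientGroup.mk' (Subgroup.center ↥T))
      (by rw [QuotientGroup.ker_mk']))
  obtain ⟨j, hj⟩ := (P.2.to_quotient (Subgroup.center ↥T)).exists_card_eq
  have hj2 : 2 ≤ j := by
    by_contra hlt
    apply hnc
    interval_cases j
    · haveI : Subsingleton (↥T ⧸ Subgroup.center ↥T) :=
        (Nat.card_eq_one_iff_unique.1 (by simpa using hj)).1
      infer_instance
    · exact isCyclic_of_prime_card (p := r) (by simpa using hj)
  -- elements outside the centre have order `r`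
  have hord : ∀ y : ↥T, y ∉ Subgroup.center ↥T → y ^ r = 1 := by
    intro y hy
    by_contra hyr
    have hyr' : (y : G) ^ r ≠ 1 := fun e => hyr (Subtype.ext e)
    obtain ⟨z, hzP, hz1, hPz, -⟩ := exists_central hG P hrd
    obtain ⟨k, hk⟩ := IsPGroup.iff_orderOf.1 P.2 ⟨z, hzP⟩
    rw [Subgroup.orderOf_mk] at hk
    obtain ⟨k, rfl⟩ : ∃ k', k = k' + 1 := ⟨k - 1, by
      rcases k with _ | k
      · exact absurd (orderOf_eq_one_iff.1 (by simpa using hk)) hz1
      · omega⟩
    -- a central element of order `r`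
    set z₁ := z ^ (r ^ k) with hz₁
    have hz₁o : orderOf z₁ = r := by
      rw [hz₁, orderOf_pow' _ (pow_ne_zero k (Fact.out : r.Prime).ne_zero), hk,
        Nat.gcd_eq_right (pow_dvd_pow r k.le_succ), pow_succ,
        Nat.mul_div_cancel_left _ (pow_pos (Fact.out : r.Prime).pos k)]
    have hz₁1 : z₁ ≠ 1 := fun e => (Fact.out : r.Prime).one_lt.ne (by rw [← hz₁o, e, orderOf_one])
    have hPz₁ : T ≤ cent z₁ := fun w hw => cent_le_cent_pow z _ (hPz w hw)
    have hy1 : (y : G) ≠ 1 := fun e => hy (by rw [show y = 1 from Subtype.ext e]; exact one_mem _)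
    have hc : Commute (y : G) z₁ := mem_cent.1 (hPz₁ y.2)
    have hyz : (y : G) * z₁ ≠ 1 := fun e => hy (by
      rw [Subgroup.mem_center_iff]
      intro u
      have h1 : Commute (u : G) z₁ := mem_cent.1 (hPz₁ u.2)
      have h2 : (y : G) = z₁⁻¹ := eq_inv_of_mul_eq_one_left e
      exact Subtype.ext (by
        show (u : G) * (y : G) = (y : G) * u
        rw [h2]; exact h1.inv_right.eq))
    have hpow : ((y : G) * z₁) ^ r = (y : G) ^ r := by
      rw [hc.mul_pow, show z₁ ^ r = 1 from hz₁o ▸ pow_orderOf_eq_one z₁, mul_one]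
    have e1 : cent (y : G) = cent ((y : G) ^ r) :=
      ((isolated hG hA hy1).2 _ (ne_center hG hA hyr') (Or.inr (cent_le_cent_pow _ r))).symm
    have e2 : cent ((y : G) * z₁) = cent ((y : G) ^ r) := by
      rw [← hpow]
      exact ((isolated hG hA hyz).2 _ (ne_center hG hA (hpow ▸ hyr'))
        (Or.inr (cent_le_cent_pow _ r))).symm
    -- so `z₁` is central in `cent y`
    have hle : cent (y : G) ≤ cent z₁ := fun u hu => by
      have h1 : Commute u (y : G) := mem_cent.1 hu
      have h2 : Commute u ((y : G) * z₁) := mem_cent.1 ((e1.trans e2.symm).le hu)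
      refine mem_cent.2 ?_
      have := (h1.inv_right).mul_right h2
      rwa [inv_mul_cancel_left] at this
    have e3 : cent z₁ = cent x := (isolated hG hA hx).2 z₁ (ne_center hG hA hz₁1) (Or.inr (hP ▸ hPz₁))
    have e4 : cent z₁ = cent (y : G) :=
      (isolated hG hA hy1).2 z₁ (ne_center hG hA hz₁1) (Or.inr hle)
    apply hy
    rw [Subgroup.mem_center_iff]
    intro u
    have hu : (u : G) ∈ cent (y : G) := e4 ▸ hPz₁ u.2
    exact Subtype.ext (mem_cent.1 hu)
  have hr2 : r ≠ 2 := by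
    intro e
    subst e
    obtain ⟨u, hu⟩ : ∃ u : ↥T, u ∉ Subgroup.center ↥T := by
      by_contra hne
      push Not at hne
      exact hTn fun u v => Subgroup.mem_center_iff.1 (hne v) u
    have hall : ∀ w : ↥T, w ^ 2 = 1 := fun w => by
      by_cases hw : w ∈ Subgroup.center ↥T
      · have huw : u * w ∉ Subgroup.center ↥T := fun hc => hu (by
          simpa using mul_mem hc (inv_mem hw))
        have h1 := hord _ huw
        rw [(show Commute u w from Subgroup.mem_center_iff.1 hw u).mul_pow, hord u hu, one_mul] at h1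
        exact h1
      · exact hord w hw
    refine hTn fun v w => ?_
    have hv := hall v; have hw := hall w; have hvw := hall (v * w)
    rw [pow_two] at hv hw hvw
    rw [← inv_eq_of_mul_eq_one_right hvw, mul_inv_rev, inv_eq_of_mul_eq_one_right hv,
      inv_eq_of_mul_eq_one_right hw]
  refine ⟨hr2, ?_⟩
  have hr3 : 3 ≤ r := by have := (Fact.out : r.Prime).two_le; omega
  rw [Subgroup.card_eq_card_quotient_mul_card_subgroup (Subgroup.center ↥T), hj]
  refine Nat.mul_le_mul_right _ ?_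
  calc 9 = 3 ^ 2 := by norm_num
    _ ≤ r ^ 2 := Nat.pow_le_pow_left hr3 2
    _ ≤ r ^ j := Nat.pow_le_pow_right (by omega) hj2

/-- Centralisers with equal index are conjugate. -/
theorem exists_conj_cent {x w : G} (hx : x ≠ 1) (hw : w ≠ 1) (he : idx w = idx x) :
    ∃ t : G, cent w = cent (t * x * t⁻¹) := by
  have hcardeq : ord w = ord x := by
    have h1 := ord_mul_index w
    have h2 := ord_mul_index x
    rw [show (cent w).index = (cent x).index from he, ← h2] at h1
    exact Nat.eq_of_mul_eq_mul_right (Nat.pos_of_ne_zero Subgroup.index_ne_zero_of_finite) h1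
  obtain ⟨r, hr, hrd⟩ := Nat.exists_prime_and_dvd (n := orderOf x) fun e => hx (orderOf_eq_one_iff.1 e)
  haveI : Fact r.Prime := ⟨hr⟩
  by_cases habx : AbC x <;> by_cases habw : AbC w
  · have hrw : r ∣ ord w := hcardeq ▸ hrd.trans (orderOf_dvd_ord x)
    obtain ⟨⟨v, hv⟩, hvo⟩ := exists_prime_orderOf_dvd_card' (G := ↥(cent w)) r hrw
    rw [Subgroup.orderOf_mk] at hvo
    have hv1 : v ≠ 1 := fun e => hr.one_lt.ne (by rw [← hvo, e, orderOf_one])
    have hrx : ¬ r ∣ idx x := fun hd => hr.one_lt.ne'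
      (Nat.eq_one_of_dvd_coprimes (coprime_abC hG hA hx habx) (hrd.trans (orderOf_dvd_ord x)) hd)
    obtain ⟨t, ht⟩ := exists_conj_le_of_sylow hrx
      (IsPGroup.of_card (n := 1) (by rw [Nat.card_zpowers, hvo, pow_one]) : IsPGroup r ↥(zpowers v))
    refine ⟨t⁻¹, ?_⟩
    have h1 : v ∈ cent (t⁻¹ * x * t⁻¹⁻¹) := by
      have := conj_mem_cent (x := t⁻¹) (ht v (mem_zpowers v))
      rwa [show t⁻¹ * (t * v * t⁻¹) * t⁻¹⁻¹ = v by group] at this
    have hx' : t⁻¹ * x * t⁻¹⁻¹ ≠ 1 := fun e => hx (conj_eq_one_iff.1 e)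
    have hab' : AbC (t⁻¹ * x * t⁻¹⁻¹) := by
      unfold AbC
      rw [cent_conj]
      rintro _ ⟨a, ha, rfl⟩ _ ⟨b, hb, rfl⟩
      simp only [← map_mul, habx a ha b hb]
    rw [← cent_eq_of_abC hG hA hw habw hv hv1, cent_eq_of_abC hG hA hx' hab' h1 hv1]
  all_goals
    have hsyl : ∀ (u v : G), u ≠ 1 → v ≠ 1 → ord u = ord v → ¬ AbC u →
        ∃ t : G, cent v = cent (t * u * t⁻¹) := fun u v hu hv huv hab => by
      obtain ⟨-, s, hs, P, hP⟩ := (dichotomy hG hA hu).resolve_left hab
      haveI : Fact s.Prime := ⟨hs⟩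
      obtain ⟨i, hi⟩ := P.2.exists_card_eq
      have hv' : IsPGroup s ↥(cent v) := IsPGroup.of_card (n := i) (by
        rw [← hi, hP]; exact huv.symm)
      obtain ⟨S, hS⟩ := hv'.exists_le_sylow
      have hSe : cent v = (S : Subgroup G) := eq_of_le_of_card_ge hS (by
        rw [S.card_eq_multiplicity, ← P.card_eq_multiplicity, hP]; exact huv.le)
      obtain ⟨t, ht⟩ := MulAction.exists_smul_eq G P S
      refine ⟨t, ?_⟩
      rw [hSe, ← ht, Sylow.coe_subgroup_smul, hP, cent_conj]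
      rfl
  · obtain ⟨t, ht⟩ := hsyl w x hw hx hcardeq habw
    refine ⟨t⁻¹, ?_⟩
    rw [cent_conj, ht, cent_conj, Subgroup.map_map]
    ext g
    constructor
    · intro hg; exact ⟨g, hg, by simp [mul_assoc]⟩
    · rintro ⟨g', hg', rfl⟩; simpa [mul_assoc] using hg'
  · exact hsyl x w hx hw hcardeq.symm habx
  · exact hsyl x w hx hw hcardeq.symm habx

/-- The number of elements with the given class size. -/
theorem ncard_le (x : G) (hx : x ≠ 1) (S : Set G) (hS : ∀ g, cent g = cent x → g ∈ S) :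
    {g : G | g ≠ 1 ∧ idx g = idx x}.ncard * Nat.card ↥(normalizer (cent x : Set G)) ≤
      Nat.card G * S.ncard := by
  haveI := Fintype.ofFinite G
  set C := cent x with hC
  set R : Set (Subgroup G) := Set.range fun t : G => C.map (MulAut.conj t).toMonoidHom with hR
  have hRc : R.ncard = (normalizer (C : Set G)).index := by
    rw [hR]
    set f : G → Subgroup G := fun t => C.map (MulAut.conj t).toMonoidHom
    have key : ∀ s t : G, f s = f t → s⁻¹ * t ∈ normalizer (C : Set G) := by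
      intro s t e
      rw [Subgroup.mem_normalizer_iff]
      intro u
      have h1 : s * u * s⁻¹ ∈ f s ↔ u ∈ C :=
        ⟨fun ⟨u', hu', e'⟩ => (MulAut.conj s).injective e' ▸ hu', fun hu => ⟨u, hu, rfl⟩⟩
      have h2 : t * u * t⁻¹ ∈ f t ↔ u ∈ C :=
        ⟨fun ⟨u', hu', e'⟩ => (MulAut.conj t).injective e' ▸ hu', fun hu => ⟨u, hu, rfl⟩⟩
      rw [← h2, ← e]
      constructor
      · rintro ⟨u', hu', e'⟩
        have e2 : s⁻¹ * t * u * (s⁻¹ * t)⁻¹ = u' := by
          change s * u' * s⁻¹ = t * u * t⁻¹ at e'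
          rw [show s⁻¹ * t * u * (s⁻¹ * t)⁻¹ = s⁻¹ * (t * u * t⁻¹) * s by group, ← e']
          group
        rw [e2]; exact hu'
      · intro hu
        exact ⟨_, hu, by show s * (s⁻¹ * t * u * (s⁻¹ * t)⁻¹) * s⁻¹ = t * u * t⁻¹; group⟩
    have key2 : ∀ s t : G, s⁻¹ * t ∈ normalizer (C : Set G) → f s = f t := by
      intro s t hn
      ext u
      constructor
      · rintro ⟨u', hu', rfl⟩
        refine ⟨(s⁻¹ * t)⁻¹ * u' * (s⁻¹ * t), ((Subgroup.mem_normalizer_iff''.mp hn) u').1 hu', ?_⟩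
        show t * ((s⁻¹ * t)⁻¹ * u' * (s⁻¹ * t)) * t⁻¹ = s * u' * s⁻¹
        group
      · rintro ⟨u', hu', rfl⟩
        refine ⟨(s⁻¹ * t) * u' * (s⁻¹ * t)⁻¹, (Subgroup.mem_normalizer_iff.1 hn u').1 hu', ?_⟩
        show s * (s⁻¹ * t * u' * (s⁻¹ * t)⁻¹) * s⁻¹ = t * u' * t⁻¹
        group
    rw [Subgroup.index, ← Nat.card_coe_set_eq]
    refine (Nat.card_congr (Equiv.ofBijective
      (Quotient.lift (fun t => (⟨f t, t, rfl⟩ : Set.range f)) fun s t hst =>
        Subtype.ext (key2 s t (QuotientGroup.leftRel_apply.1 hst))) ⟨?_, ?_⟩)).symm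
    · intro s t
      refine Quotient.inductionOn₂ s t fun s t e => Quotient.sound ?_
      exact QuotientGroup.leftRel_apply.2 (key s t (congrArg Subtype.val e))
    · rintro ⟨_, t, rfl⟩
      exact ⟨⟦t⟧, rfl⟩
  set N : Set G := {g : G | g ≠ 1 ∧ idx g = idx x} with hN
  have hbound : N.ncard ≤ R.ncard * S.ncard := by
    rw [Set.ncard_eq_toFinset_card', Set.ncard_eq_toFinset_card' R, Finset.card_eq_sum_card_fiberwise
      (f := fun g => cent g) (t := R.toFinset) (fun g hg => by
        obtain ⟨hg1, hge⟩ := Set.mem_toFinset.1 hg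
        obtain ⟨t, ht⟩ := exists_conj_cent hG hA hx hg1 hge
        refine Finset.mem_coe.2 (Set.mem_toFinset.2 ⟨t, ?_⟩)
        show C.map (MulAut.conj t).toMonoidHom = cent g
        rw [ht, cent_conj])]
    refine (Finset.sum_le_card_nsmul _ _ S.ncard fun D hD => ?_).trans (by rw [smul_eq_mul])
    obtain ⟨t, rfl⟩ := Set.mem_toFinset.1 hD
    rw [← Set.ncard_coe_finset]
    refine Set.ncard_le_ncard_of_injOn (fun g => t⁻¹ * g * t) ?_
      (fun g _ g' _ e => mul_left_cancel (mul_right_cancel e)) (Set.toFinite _)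
    intro g hg
    simp only [Finset.coe_filter, Set.mem_setOf_eq] at hg
    refine hS _ ?_
    have h1 := cent_conj t⁻¹ g
    rw [inv_inv] at h1
    rw [h1, hg.2, Subgroup.map_map]
    ext u
    constructor
    · rintro ⟨u', hu', rfl⟩; simpa [mul_assoc] using hu'
    · intro hu; exact ⟨u, hu, by simp [mul_assoc]⟩
  calc N.ncard * Nat.card ↥(normalizer (C : Set G))
      ≤ (normalizer (C : Set G)).index * S.ncard * Nat.card ↥(normalizer (C : Set G)) :=
        Nat.mul_le_mul_right _ (hRc ▸ hbound)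
    _ = Nat.card G * S.ncard := by rw [← Subgroup.card_mul_index (normalizer (C : Set G))]; ring

theorem normalizer_ne {x : G} (hx : x ≠ 1) (hab : AbC x) : normalizer (cent x : Set G) ≠ cent x := by
  intro hN
  obtain ⟨r, hr, hrd⟩ := Nat.exists_prime_and_dvd (n := orderOf x) fun e => hx (orderOf_eq_one_iff.1 e)
  haveI : Fact r.Prime := ⟨hr⟩
  have hrx : ¬ r ∣ idx x := fun hd => hr.one_lt.ne'
    (Nat.eq_one_of_dvd_coprimes (coprime_abC hG hA hx hab) (hrd.trans (orderOf_dvd_ord x)) hd)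
  obtain ⟨P, hP⟩ := exists_sylow_le_of_not_dvd (cent x) hrx
  have hPne : (P : Subgroup G) ≠ ⊥ := fun e => by
    have := P.not_dvd_index
    rw [e, Subgroup.index_bot] at this
    exact this (hrd.trans (orderOf_dvd_natCard x))
  obtain ⟨w, hwP, hw1⟩ := (Subgroup.bot_or_exists_ne_one _).resolve_left hPne
  have hle : normalizer ((P : Subgroup G) : Set G) ≤ Subgroup.centralizer ((P : Subgroup G) : Set G) := by
    intro n hn
    have h2 : n * w * n⁻¹ ∈ cent x := hP ((Subgroup.mem_normalizer_iff.1 hn w).1 hwP)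
    have e : (cent x).map (MulAut.conj n).toMonoidHom = cent x := by
      conv_lhs => rw [← cent_eq_of_abC hG hA hx hab (hP hwP) hw1, ← cent_conj]
      exact cent_eq_of_abC hG hA hx hab h2 fun e => hw1 (conj_eq_one_iff.1 e)
    have hnn : n ∈ normalizer (cent x : Set G) := by
      rw [Subgroup.mem_normalizer_iff]
      intro u
      conv_rhs => rw [← e]
      exact ⟨fun hu => ⟨u, hu, rfl⟩, fun ⟨u', hu', e'⟩ => (MulAut.conj n).injective e' ▸ hu'⟩
    rw [hN] at hnn
    exact Subgroup.mem_centralizer_iff.2 fun u hu => hab u (hP hu) n hnn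
  have hc := MonoidHom.ker_transferSylow_isComplement' P hle
  rcases (MonoidHom.normal_ker (MonoidHom.transferSylow P hle)).eq_bot_or_eq_top with e | e
  · rw [e] at hc
    have h1 := hc.card_mul
    rw [Subgroup.card_bot, one_mul] at h1
    have hPtop : (P : Subgroup G) = ⊤ := Subgroup.eq_top_of_card_eq _ h1
    refine hx ((mem_center_iff_eq_one hG).1 (mem_center_iff_cent.2 (top_le_iff.1 ?_)))
    exact hPtop ▸ hP
  · rw [e] at hc
    have h1 := hc.card_mul
    rw [Subgroup.card_top] at h1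
    refine hPne (Subgroup.card_eq_one.1 ?_)
    exact Nat.eq_of_mul_eq_mul_left Nat.card_pos (by rw [h1, mul_one])

/-- With three class sizes, none properly dividing another, all centralisers are abelian. -/
theorem all_abC {i j k : ℕ} (hcases : ∀ g : G, g ≠ 1 → idx g = i ∨ idx g = j ∨ idx g = k) :
    ∀ x : G, x ≠ 1 → AbC x := by
  intro x hx
  by_contra hn
  obtain ⟨-, r, hr, P, hP⟩ := (dichotomy hG hA hx).resolve_left hn
  haveI : Fact r.Prime := ⟨hr⟩
  haveI := Fintype.ofFinite G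
  have heven : 2 ∣ Nat.card G := by
    by_contra ho
    have hsol := S0205.result (G := G) (Nat.odd_iff.2 (by omega))
    exact hG ⟨⟨(IsSimpleGroup.comm_iff_isSolvable).2 hsol⟩⟩
  haveI : Fact (Nat.Prime 2) := ⟨Nat.prime_two⟩
  obtain ⟨t, ht⟩ := exists_prime_orderOf_dvd_card' 2 heven
  have ht1 : t ≠ 1 := fun e => by rw [e, orderOf_one] at ht; omega
  have habt : AbC t := by
    by_contra hnt
    obtain ⟨-, s, hs, S, hS⟩ := (dichotomy hG hA ht1).resolve_left hnt
    haveI : Fact s.Prime := ⟨hs⟩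
    refine (pgroup_structure hG hA ht1 hnt S hS).1 ?_
    obtain ⟨m, hm⟩ := IsPGroup.iff_orderOf.1 S.2 ⟨t, hS ▸ self_mem_cent t⟩
    rw [Subgroup.orderOf_mk, ht] at hm
    exact ((Nat.prime_dvd_prime_iff_eq Nat.prime_two hs).1
      (Nat.prime_two.dvd_of_dvd_pow (n := m) hm.dvd)).symm
  have hbound : ∀ (g : G), g ≠ 1 → AbC g → ∀ e : ℕ, (∀ d : ℕ, 2 ≤ d → d ∣ idx g → e ≤ d) →
      e * {h : G | h ≠ 1 ∧ idx h = idx g}.ncard ≤ Nat.card G := by
    intro g hg hab e he
    have hN := ncard_le hG hA g hg (cent g : Set G) fun h hh => hh ▸ self_mem_cent h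
    obtain ⟨d, hd⟩ : ord g ∣ Nat.card ↥(normalizer (cent g : Set G)) :=
      Subgroup.card_dvd_of_le Subgroup.le_normalizer
    have hd2 : 2 ≤ d := by
      by_contra hlt
      refine normalizer_ne hG hA hg hab (eq_of_le_of_card_ge Subgroup.le_normalizer ?_).symm
      rw [hd]
      exact (Nat.mul_le_mul_left _ (by omega : d ≤ 1)).trans (mul_one _).le
    have hdi : d ∣ idx g := by
      have h1 : ord g * d ∣ ord g * idx g := by
        rw [← hd, show ord g * idx g = Nat.card G from ord_mul_index g]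
        exact Subgroup.card_subgroup_dvd_card _
      exact Nat.dvd_of_mul_dvd_mul_left Nat.card_pos h1
    have h2 : (cent g : Set G).ncard = ord g := (Nat.card_coe_set_eq _).symm
    rw [hd, h2] at hN
    refine le_trans ?_ (Nat.le_of_mul_le_mul_left (c := ord g) (a := {h : G | h ≠ 1 ∧ idx h = idx g}.ncard * d)
      (b := Nat.card G) (by nlinarith) Nat.card_pos)
    rw [mul_comm]
    exact Nat.mul_le_mul_left _ (he d hd2 hdi)
  have hnab : ∀ (g : G), g ≠ 1 → ¬ AbC g →
      9 * {h : G | h ≠ 1 ∧ idx h = idx g}.ncard ≤ Nat.card G := by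
    intro g hg hab
    obtain ⟨-, s, hs, S, hS⟩ := (dichotomy hG hA hg).resolve_left hab
    haveI : Fact s.Prime := ⟨hs⟩
    have hN := ncard_le hG hA g hg
      ((Subgroup.center ↥(S : Subgroup G)).map (S : Subgroup G).subtype : Set G) fun h hh => by
        have hhS : h ∈ (S : Subgroup G) := hS ▸ hh ▸ self_mem_cent h
        refine ⟨⟨h, hhS⟩, Subgroup.mem_center_iff.2 fun u => Subtype.ext ?_, rfl⟩
        have hu : (u : G) ∈ cent h := by rw [hh, ← hS]; exact u.2
        exact mem_cent.1 hu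
    have h1 : ((Subgroup.center ↥(S : Subgroup G)).map (S : Subgroup G).subtype : Set G).ncard =
        Nat.card ↥(Subgroup.center ↥(S : Subgroup G)) := by
      rw [← Nat.card_coe_set_eq]
      exact Subgroup.card_map_of_injective Subtype.val_injective
    rw [h1] at hN
    have h2 := (pgroup_structure hG hA hg hab S hS).2
    have h3 : Nat.card ↥(S : Subgroup G) ≤ Nat.card ↥(normalizer (cent g : Set G)) :=
      Subgroup.card_le_of_le (hS ▸ Subgroup.le_normalizer)
    have hz : 0 < Nat.card ↥(Subgroup.center ↥(S : Subgroup G)) := Nat.card_pos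
    refine Nat.le_of_mul_le_mul_left (c := Nat.card ↥(Subgroup.center ↥(S : Subgroup G))) ?_ hz
    set M := {h : G | h ≠ 1 ∧ idx h = idx g}.ncard
    nlinarith [Nat.mul_le_mul_left M (h2.trans h3)]
  have ht3 : ∀ d : ℕ, 2 ≤ d → d ∣ idx t → 3 ≤ d := fun d hd hdi => by
    by_contra hlt
    have hd2 : d = 2 := by omega
    exact absurd (Nat.eq_one_of_dvd_coprimes (coprime_abC hG hA ht1 habt)
      (ht ▸ orderOf_dvd_ord t) (hd2 ▸ hdi)) (by norm_num)
  have htx : idx t ≠ idx x := fun e => by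
    obtain ⟨s, hs⟩ := exists_conj_cent hG hA hx ht1 e
    refine hn fun u hu v hv => ?_
    have hmem : ∀ w ∈ cent x, s * w * s⁻¹ ∈ cent t := fun w hw => hs ▸ conj_mem_cent hw
    have e' := habt _ (hmem u hu) _ (hmem v hv)
    simp only [conj_mul] at e'
    exact mul_left_cancel (mul_right_cancel e')
  have h54 : 36 ≤ Nat.card G := by
    have h1 := (pgroup_structure hG hA hx hn P hP).2
    have hxP : x ∈ (P : Subgroup G) := by rw [hP]; exact self_mem_cent x
    haveI : Nontrivial ↥(P : Subgroup G) := ⟨⟨⟨x, hxP⟩, 1, fun e => hx (congrArg Subtype.val e)⟩⟩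
    haveI := P.2.center_nontrivial
    have hz : 1 < Nat.card ↥(Subgroup.center ↥(P : Subgroup G)) := Finite.one_lt_card
    have h2 := P.card_eq_multiplicity
    have hdvd : Nat.card ↥(P : Subgroup G) ∣ Nat.card G := Subgroup.card_subgroup_dvd_card _
    have hlt : Nat.card ↥(P : Subgroup G) ≠ Nat.card G := fun e => by
      have := (Subgroup.eq_top_of_card_eq _ e).symm.trans hP
      exact hx ((mem_center_iff_eq_one hG).1 (mem_center_iff_cent.2 this.symm))
    obtain ⟨m, hm⟩ := hdvd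
    have hm2 : 2 ≤ m := by
      rcases m with _ | _ | m
      · rw [mul_zero] at hm; exact absurd hm Nat.card_pos.ne'
      · rw [zero_add, mul_one] at hm; exact absurd hm.symm hlt
      · omega
    nlinarith
  -- all non-identity elements lie in three sets of bounded size
  set Ni : ℕ → ℕ := fun n => {h : G | h ≠ 1 ∧ idx h = n}.ncard with hNi
  have hall : ∀ n, 2 * Ni n ≤ Nat.card G := fun n => by
    by_cases hex : ∃ g : G, g ≠ 1 ∧ idx g = n
    · obtain ⟨g, hg, rfl⟩ := hex
      by_cases hab : AbC g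
      · exact hbound g hg hab 2 fun d hd _ => hd
      · have := hnab g hg hab
        simp only [hNi]
        omega
    · have : {h : G | h ≠ 1 ∧ idx h = n} = ∅ := Set.eq_empty_iff_forall_notMem.2 fun g hg => hex ⟨g, hg⟩
      simp only [hNi, this, Set.ncard_empty]; omega
  have hsub : Nat.card G ≤ Ni i + Ni j + Ni k + 1 := by
    rw [← Set.ncard_univ]
    have : (Set.univ : Set G) ⊆ {h : G | h ≠ 1 ∧ idx h = i} ∪ {h : G | h ≠ 1 ∧ idx h = j} ∪
        {h : G | h ≠ 1 ∧ idx h = k} ∪ {1} := fun g _ => by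
      by_cases hg : g = 1
      · exact Or.inr hg
      rcases hcases g hg with e | e | e
      exacts [Or.inl (Or.inl (Or.inl ⟨hg, e⟩)), Or.inl (Or.inl (Or.inr ⟨hg, e⟩)), Or.inl (Or.inr ⟨hg, e⟩)]
    refine (Set.ncard_le_ncard this (Set.toFinite _)).trans ?_
    refine (Set.ncard_union_le _ _).trans ?_
    rw [Set.ncard_singleton]
    have h1 := Set.ncard_union_le {h : G | h ≠ 1 ∧ idx h = i} {h : G | h ≠ 1 ∧ idx h = j}
    have h2 := Set.ncard_union_le ({h : G | h ≠ 1 ∧ idx h = i} ∪ {h : G | h ≠ 1 ∧ idx h = j})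
      {h : G | h ≠ 1 ∧ idx h = k}
    simp only [hNi]
    omega
  have e3 : 3 * Ni (idx t) ≤ Nat.card G := hbound t ht1 habt 3 ht3
  have e9 : 9 * Ni (idx x) ≤ Nat.card G := hnab x hx hn
  have q1 := hall i; have q2 := hall j; have q3 := hall k
  rcases hcases t ht1 with e | e | e <;> rcases hcases x hx with e' | e' | e' <;>
    first
      | exact htx (e.trans e'.symm)
      | (rw [e] at e3; rw [e'] at e9; omega)

end Cfsg.Agent.Rank3
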