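import Cfsg.Agent.CsPSL.Lift
import Cfsg.Agent.S0143
import Mathlib.GroupTheory.Sylow

/-!
Elements of a simple group with coprime class sizes.
-/

set_option autoImplicit false

namespace Cfsg.Agent.Rank3

open Subgroup CsPSL
open scoped Classical

variable {G : Type*} [Group G] [Finite G]

/-- The class size of an element. -/
noncomputable abbrev idx (g : G) : ℕ := (cent g).index

theorem idx_dvd_card (g : G) : idx g ∣ Nat.card G := Subgroup.index_dvd_card _

theorem idx_conj (x g : G) : idx (x * g * x⁻¹) = idx g := ClassSize.index_centralizer_conj x g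

theorem cent_inv (g : G) : cent g⁻¹ = cent g := by
  refine le_antisymm (cent_le_of_mem_zpowers ⟨-1, ?_⟩) (cent_le_of_mem_zpowers ⟨-1, ?_⟩) <;> simp

theorem index_inf_of_coprime {A B : Subgroup G} (h : A.index.Coprime B.index) :
    (A ⊓ B).index = A.index * B.index := by
  refine le_antisymm Subgroup.index_inf_le ?_
  refine Nat.le_of_dvd (Nat.pos_of_ne_zero Subgroup.index_ne_zero_of_finite) ?_
  exact h.mul_dvd_of_dvd_of_dvd (Subgroup.index_dvd_of_le inf_le_left)
    (Subgroup.index_dvd_of_le inf_le_right)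

variable [IsSimpleGroup G] (hG : ¬ IsMulCommutative G)
include hG

theorem center_eq_bot : Subgroup.center G = ⊥ :=
  ((inferInstance : (Subgroup.center G).Normal).eq_bot_or_eq_top).resolve_right fun h =>
    hG ⟨⟨fun a b => (Subgroup.mem_center_iff.1 (h ▸ Subgroup.mem_top b) a)⟩⟩

theorem mem_center_iff_eq_one {g : G} : g ∈ Subgroup.center G ↔ g = 1 := by
  rw [center_eq_bot hG, Subgroup.mem_bot]

theorem one_lt_idx {g : G} (hg : g ≠ 1) : 1 < idx g := by
  have h0 : idx g ≠ 0 := Subgroup.index_ne_zero_of_finite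
  have h1 : idx g ≠ 1 := fun h =>
    hg ((mem_center_iff_eq_one hG).1 (mem_center_iff_cent.2 (Subgroup.index_eq_one.1 h)))
  omega

theorem not_prime_pow_idx {g : G} (hg : g ≠ 1) {r k : ℕ} (hr : r.Prime) : idx g ≠ r ^ k := by
  intro h
  haveI : Fact (Nat.card G).Prime := ⟨S0143.result r k hr g hg h⟩
  haveI : IsCyclic G := isCyclic_of_prime_card rfl
  exact hG IsCyclic.commutative

/-- A non-trivial element of the centre of a Sylow subgroup. -/
theorem exists_central {r : ℕ} [Fact r.Prime] (P : Sylow r G) (hr : r ∣ Nat.card G) :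
    ∃ z ∈ (P : Subgroup G), z ≠ 1 ∧ (∀ w ∈ (P : Subgroup G), w ∈ cent z) ∧ ¬ r ∣ idx z := by
  haveI : Nontrivial ↥(P : Subgroup G) := Finite.one_lt_card_iff_nontrivial.1 (by
    rw [P.card_eq_multiplicity]
    refine Nat.one_lt_pow ?_ (Fact.out : r.Prime).one_lt
    have := ((Fact.out : r.Prime).dvd_iff_one_le_factorization Nat.card_pos.ne').1 hr
    omega)
  haveI := P.2.center_nontrivial
  obtain ⟨⟨⟨z, hzP⟩, hz⟩, hz1⟩ := exists_ne (1 : Subgroup.center ↥(P : Subgroup G))
  have hPz : ∀ w ∈ (P : Subgroup G), w ∈ cent z := fun w hw =>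
    mem_cent.2 (congrArg Subtype.val (Subgroup.mem_center_iff.1 hz ⟨w, hw⟩))
  refine ⟨z, hzP, fun e => hz1 (Subtype.ext (Subtype.ext e)), hPz, fun hd => ?_⟩
  exact P.not_dvd_index (hd.trans (Subgroup.index_dvd_of_le hPz))

/-- Some non-trivial element has class size prime to `r`. -/
theorem exists_not_dvd_idx {r : ℕ} (hr : r.Prime) : ∃ z : G, z ≠ 1 ∧ ¬ r ∣ idx z := by
  haveI : Fact r.Prime := ⟨hr⟩
  by_cases hd : r ∣ Nat.card G
  · obtain ⟨P⟩ : Nonempty (Sylow r G) := inferInstance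
    obtain ⟨z, -, hz1, -, hz⟩ := exists_central hG P hd
    exact ⟨z, hz1, hz⟩
  · haveI : Nontrivial G := IsSimpleGroup.toNontrivial
    obtain ⟨z, hz⟩ := exists_ne (1 : G)
    exact ⟨z, hz, fun h => hd (h.trans (idx_dvd_card z))⟩

/-- A prime power element commutes with a Sylow-central element. -/
theorem exists_central_commute {r : ℕ} [Fact r.Prime] {w : G} (hw : ∃ k, orderOf w = r ^ k)
    (hr : r ∣ Nat.card G) :
    ∃ z : G, z ≠ 1 ∧ (∃ k, orderOf z = r ^ k) ∧ ¬ r ∣ idx z ∧ w ∈ cent z := by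
  obtain ⟨k, hk⟩ := hw
  obtain ⟨P, hP⟩ := (IsPGroup.of_card (n := k) (by rw [Nat.card_zpowers, hk]) :
    IsPGroup r ↥(zpowers w)).exists_le_sylow
  obtain ⟨z, hzP, hz1, hPz, hz⟩ := exists_central hG P hr
  obtain ⟨j, hj⟩ := IsPGroup.iff_orderOf.1 P.2 ⟨z, hzP⟩
  rw [Subgroup.orderOf_mk] at hj
  exact ⟨z, hz1, ⟨j, hj⟩, hz, hPz w (hP (mem_zpowers w))⟩

/-- Elements with coprime class sizes do not commute. -/
theorem not_mem_cent_of_coprime {x y : G} (hx : x ≠ 1) (hy : y ≠ 1)
    (h : (idx x).Coprime (idx y)) : y ∉ cent x := by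
  intro hyx
  have hconj : Subgroup.normalClosure ({y} : Set G) ≤ cent x := by
    refine (Subgroup.closure_le _).2 fun z hz => ?_
    obtain ⟨w, hw, hwz⟩ := Group.mem_conjugatesOfSet_iff.1 hz
    rw [Set.mem_singleton_iff] at hw
    subst hw
    obtain ⟨t, rfl⟩ := isConj_iff.1 hwz
    obtain ⟨a, ha, b, hb, rfl⟩ := ClassSize.mul_eq_univ_of_coprime_index h t
    have hb' : b * w * b⁻¹ = w := by rw [mem_cent.1 hb, mul_inv_cancel_right]
    rw [show a * b * w * (a * b)⁻¹ = a * (b * w * b⁻¹) * a⁻¹ by group, hb']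
    exact mul_mem (mul_mem ha hyx) (inv_mem ha)
  rcases (Subgroup.normalClosure_normal (s := ({y} : Set G))).eq_bot_or_eq_top with e | e
  · exact hy ((Subgroup.mem_bot).1 (e ▸ Subgroup.subset_normalClosure rfl))
  · rw [e, top_le_iff] at hconj
    exact hx ((mem_center_iff_eq_one hG).1 (mem_center_iff_cent.2 hconj))

theorem idx_lt_idx_mul {x y : G} (hx : x ≠ 1) (hy : y ≠ 1) (h : (idx x).Coprime (idx y)) :
    idx y < idx (x * y) := by
  set D : Set G := Set.range fun t : G => t * y * t⁻¹ with hD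
  set E : Set G := Set.range fun t : G => t * (x * y) * t⁻¹ with hE
  have hDc : D.ncard = idx y := ClassSize.ncard_range_conj y
  have hEc : E.ncard = idx (x * y) := ClassSize.ncard_range_conj (x * y)
  have hsub : ∀ s : G, (fun d => s * x * s⁻¹ * d) '' D ⊆ E := by
    rintro s _ ⟨_, ⟨t, rfl⟩, rfl⟩
    obtain ⟨c, hc⟩ := isConj_iff.1 (ClassSize.isConj_mul_of_coprime_index h
      (isConj_iff.2 ⟨s, rfl⟩) (isConj_iff.2 ⟨t, rfl⟩))
    exact ⟨c, hc⟩
  have hcard : ∀ s : G, ((fun d => s * x * s⁻¹ * d) '' D).ncard = idx y := fun s => by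
    rw [Set.ncard_image_of_injective _ (mul_right_injective _), hDc]
  have hle : idx y ≤ idx (x * y) := by
    rw [← hcard 1, ← hEc]
    exact Set.ncard_le_ncard (hsub 1) (Set.toFinite _)
  refine lt_of_le_of_ne hle fun he => ?_
  have heq : ∀ s : G, (fun d => s * x * s⁻¹ * d) '' D = E := fun s =>
    Set.eq_of_subset_of_ncard_le (hsub s) (by rw [hcard, hEc, he]) (Set.toFinite _)
  let K : Subgroup G :=
    { carrier := {g | (fun d => g * d) '' D = D}
      one_mem' := by simp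
      mul_mem' := fun {g k} hg hk => by
        change (fun d => g * k * d) '' D = D
        rw [show (fun d => g * k * d) = (fun d => g * d) ∘ (fun d => k * d) by
          funext d; simp [mul_assoc], Set.image_comp, hk, hg]
      inv_mem' := fun {g} hg => by
        change (fun d => g⁻¹ * d) '' D = D
        conv_lhs => rw [← hg]
        rw [Set.image_image]
        simp }
  have hK : ∀ g, g ∈ K ↔ (fun d => g * d) '' D = D := fun g => Iff.rfl
  have hDn : ∀ (u : G), ∀ d ∈ D, u * d * u⁻¹ ∈ D := by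
    rintro u _ ⟨t, rfl⟩; exact ⟨u * t, by group⟩
  have hKn : K.Normal := ⟨fun g hg u => by
    rw [hK] at hg ⊢
    refine Set.eq_of_subset_of_ncard_le ?_ ?_ (Set.toFinite _)
    · rintro _ ⟨d, hd, rfl⟩
      have h1 : g * (u⁻¹ * d * u⁻¹⁻¹) ∈ D := hg.subset ⟨_, hDn u⁻¹ d hd, rfl⟩
      convert hDn u _ h1 using 1
      group
    · rw [Set.ncard_image_of_injective _ (mul_right_injective _)]⟩
  have hmem : ∀ s : G, x⁻¹ * (s * x * s⁻¹) ∈ K := fun s => by
    rw [hK]
    calc (fun d => x⁻¹ * (s * x * s⁻¹) * d) '' D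
        = (fun d => x⁻¹ * d) '' ((fun d => s * x * s⁻¹ * d) '' D) := by
          rw [Set.image_image]; simp [mul_assoc]
      _ = (fun d => x⁻¹ * d) '' ((fun d => 1 * x * 1⁻¹ * d) '' D) := by rw [heq, heq]
      _ = D := by rw [Set.image_image]; simp
  rcases hKn.eq_bot_or_eq_top with e | e
  · refine hx ((mem_center_iff_eq_one hG).1 (Subgroup.mem_center_iff.2 fun s => ?_))
    have h1 := hmem s
    rw [e, Subgroup.mem_bot, inv_mul_eq_one, eq_mul_inv_iff_mul_eq] at h1
    exact h1.symm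
  · have h1 : (fun d => y⁻¹ * d) '' D = D := (hK _).1 (e ▸ Subgroup.mem_top y⁻¹)
    obtain ⟨t, ht⟩ : (1 : G) ∈ D := h1.subset ⟨y, ⟨1, by simp⟩, inv_mul_cancel y⟩
    exact hy (conj_eq_one_iff.1 ht)

theorem idx_mul_of_coprime {x y : G} (hx : x ≠ 1) (hy : y ≠ 1) (h : (idx x).Coprime (idx y)) :
    idx (x * y) ∣ idx x * idx y ∧ idx x < idx (x * y) ∧ idx y < idx (x * y) := by
  refine ⟨?_, ?_, idx_lt_idx_mul hG hx hy h⟩
  · rw [← index_inf_of_coprime h]
    exact Subgroup.index_dvd_of_le fun g hg => mem_cent.2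
      ((show Commute g x from mem_cent.1 hg.1).mul_right (show Commute g y from mem_cent.1 hg.2)).eq
  · have := idx_lt_idx_mul hG (x := y⁻¹) (y := x⁻¹) (inv_ne_one.2 hy) (inv_ne_one.2 hx)
      (by simpa [idx, cent_inv] using h.symm)
    simpa [idx, cent_inv, ← mul_inv_rev] using this

end Cfsg.Agent.Rank3
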