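import Cfsg.Agent.Rank3.Chain
import Cfsg.Agent.Rank3.Antichain
import Cfsg.Agent.S5748
import Cfsg.Agent.S2507

/-!
Simple groups with three class sizes.
-/

set_option autoImplicit false

namespace Cfsg.Agent.Rank3

open Subgroup CsPSL

theorem setOf_index_eq (G : Type*) [Group G] [Finite G] :
    {m : ℕ | ∃ x : G, x ∉ Subgroup.center G ∧ m = (Subgroup.centralizer ({x} : Set G)).index} =
      Set.range (fun g : G => (Subgroup.centralizer ({g} : Set G)).index) \ {1} := by
  ext m
  constructor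
  · rintro ⟨x, hx, rfl⟩
    exact ⟨⟨x, rfl⟩, fun e => hx (mem_center_iff_cent.2 (Subgroup.index_eq_one.1 e))⟩
  · rintro ⟨⟨x, rfl⟩, h⟩
    exact ⟨x, fun hc => h (Subgroup.index_eq_one.2 (mem_center_iff_cent.1 hc)), rfl⟩

theorem range_index_congr {G H : Type*} [Group G] [Group H] (e : G ≃* H) :
    Set.range (fun g : G => (Subgroup.centralizer ({g} : Set G)).index) =
      Set.range (fun g : H => (Subgroup.centralizer ({g} : Set H)).index) := by
  have key : ∀ g : G, (Subgroup.centralizer ({g} : Set G)).index =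
      (Subgroup.centralizer ({e g} : Set H)).index := fun g => by
    rw [show (Subgroup.centralizer ({g} : Set G)) =
        (Subgroup.centralizer ({e g} : Set H)).comap e.toMonoidHom by
      ext x
      simp [Subgroup.mem_centralizer_singleton_iff, ← map_mul]]
    exact Subgroup.index_comap_of_surjective _ e.surjective
  ext m
  constructor
  · rintro ⟨g, rfl⟩; exact ⟨e g, (key g).symm⟩
  · rintro ⟨h, rfl⟩
    obtain ⟨g, rfl⟩ := e.surjective h
    exact ⟨g, key g⟩

theorem main (G : Type*) [Group G] [Finite G] :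
    (IsSimpleGroup G ∧ ¬ IsMulCommutative G ∧
        Set.ncard {m : ℕ | ∃ x : G, x ∉ Subgroup.center G ∧ m = (Subgroup.centralizer ({x} : Set G)).index} = 3) ↔
      ∃ (m : ℕ) (F : Type) (_ : Field F) (_ : Fintype F), 2 ≤ m ∧ Fintype.card F = 2 ^ m ∧
        Nonempty (G ≃* Matrix.ProjectiveSpecialLinearGroup (Fin 2) F) := by
  constructor
  · rintro ⟨hS, hG, h3⟩
    obtain ⟨i, j, k, hij, hik, hjk, hset⟩ := Set.ncard_eq_three.1 h3
    have hcases : ∀ g : G, g ≠ 1 → idx g = i ∨ idx g = j ∨ idx g = k := fun g hg => by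
      have h1 : idx g ∈ ({i, j, k} : Set ℕ) :=
        hset ▸ ⟨g, fun hc => hg ((mem_center_iff_eq_one hG).1 hc), rfl⟩
      simpa using h1
    have hex : ∀ n : ℕ, n = i ∨ n = j ∨ n = k → ∃ g : G, g ≠ 1 ∧ idx g = n := fun n hn => by
      obtain ⟨g, hg, e⟩ : n ∈ {m : ℕ | ∃ x : G, x ∉ Subgroup.center G ∧
          m = (Subgroup.centralizer ({x} : Set G)).index} := by rw [hset]; simpa using hn
      exact ⟨g, fun e' => hg (e' ▸ one_mem _), e.symm⟩
    have hA : ∀ g h : G, g ≠ 1 → h ≠ 1 → idx g ∣ idx h → idx g = idx h := by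
      intro g h hg hh hd
      by_contra hne
      -- the third class size
      obtain ⟨c, hca, hcb, hc, hall⟩ : ∃ c, idx g ≠ c ∧ idx h ≠ c ∧ (c = i ∨ c = j ∨ c = k) ∧
          ∀ n, n = i ∨ n = j ∨ n = k → n = idx g ∨ n = idx h ∨ n = c := by
        rcases hcases g hg with e | e | e <;> rcases hcases h hh with e' | e' | e'
        all_goals first
          | (exfalso; exact hne (e.trans e'.symm))
          | (first
              | refine ⟨i, ?_, ?_, Or.inl rfl, ?_⟩ <;> omega
              | refine ⟨j, ?_, ?_, Or.inr (Or.inl rfl), ?_⟩ <;> omega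
              | refine ⟨k, ?_, ?_, Or.inr (Or.inr rfl), ?_⟩ <;> omega)
      exact Chain.false hG (a := idx g) (b := idx h) (c := c)
        ⟨hd, hne, hca, hcb, fun y hy => hall _ (hcases y hy), ⟨g, hg, rfl⟩, ⟨h, hh, rfl⟩, hex c hc⟩
    have hab := all_abC hG hA hcases
    have hct : ∀ a b c : G, a ≠ 1 → b ≠ 1 → c ≠ 1 → Commute a b → Commute b c → Commute a c :=
      fun a b c _ hb _ hab' hbc => hab b hb a (mem_cent.2 hab'.eq) c (mem_cent.2 hbc.symm.eq)
    obtain ⟨F, iF, iFF, f, hf, hF, he⟩ := (S5748.result hG).1 hct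
    exact ⟨f, F, iF, iFF, hf, hF, he⟩
  · rintro ⟨m, F, iF, iFF, hm, hF, ⟨e⟩⟩
    have h4 : 4 ≤ Fintype.card F := by
      rw [hF]; exact (Nat.pow_le_pow_right (by norm_num) hm : 2 ^ 2 ≤ 2 ^ m)
    have h2 : 2 ∣ Fintype.card F := by rw [hF]; exact dvd_pow_self 2 (by omega)
    haveI : IsSimpleGroup (Matrix.ProjectiveSpecialLinearGroup (Fin 2) F) :=
      Matrix.ProjectiveSpecialLinearGroup.rank_two_simple (by rwa [Nat.card_eq_fintype_card])
    have hS : IsSimpleGroup G := (MulEquiv.isSimpleGroup_congr e).2 inferInstance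
    have hrange := (range_index_congr e).trans (S2507.result h2 h4)
    set q := Fintype.card F with hq
    have e1 : q * 3 ≤ q * (q - 1) := Nat.mul_le_mul_left q (by omega)
    have e2 : q * (q - 1) + 2 * q = q * (q + 1) := by
      obtain ⟨q', hq'⟩ : ∃ q', q = q' + 1 := ⟨q - 1, by omega⟩
      rw [hq', Nat.add_sub_cancel]; ring
    have e3 : q ^ 2 - 1 + 1 + q = q * (q + 1) := by
      have : 1 ≤ q ^ 2 := Nat.one_le_pow _ _ (by omega)
      rw [Nat.sub_add_cancel this]; ring
    have h3 : Set.ncard {m : ℕ | ∃ x : G, x ∉ Subgroup.center G ∧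
        m = (Subgroup.centralizer ({x} : Set G)).index} = 3 := by
      rw [setOf_index_eq, hrange, Set.ncard_eq_three]
      refine ⟨q * (q - 1), q ^ 2 - 1, q * (q + 1), by omega, by omega, by omega, ?_⟩
      ext n
      simp only [Set.mem_sdiff, Set.mem_insert_iff, Set.mem_singleton_iff]
      omega
    refine ⟨hS, fun hc => ?_, h3⟩
    obtain ⟨x, y₀, z₀, -, -, -, hset⟩ := Set.ncard_eq_three.1 h3
    obtain ⟨g, hg, -⟩ : x ∈ {m : ℕ | ∃ x : G, x ∉ Subgroup.center G ∧
        m = (Subgroup.centralizer ({x} : Set G)).index} := by rw [hset]; simp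
    exact hg (Subgroup.mem_center_iff.2 fun y => hc.is_comm.comm y g)

end Cfsg.Agent.Rank3
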